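import Cfsg.Agent.Lib.helper3.G24TC.U.Base
import Cfsg.Agent.Lib.helper3.StemPres

/-! the structure of the base words (generated, helper3) -/

set_option autoImplicit false
set_option maxRecDepth 100000

namespace Cfsg.Agent.Lib.Helper3.G24TC.U

open Cfsg.Agent.Lib.Helper12.TC Cfsg.Agent.Lib.Helper12.TCG Cfsg.Agent.Lib.Helper3.StemPres

/-- the letters with the two words whose commutator they are -/
def sData : List (ℕ × List ℕ × List ℕ) :=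
  [(0, [4, 0, 2, 5], [4, 0, 2, 5, 0, 4, 3, 1, 5]),
   (2, [5, 0, 2, 4], [5, 0, 2, 4, 2, 5, 3, 1, 4]),
   (4, [0, 2, 4, 0, 5, 0, 2], [4])]

/-- relators of the base group -/
def rels : List (List ℕ) :=
  [[0, 0],
   [5, 5, 5],
   [0, 2, 0, 2, 1, 3],
   [2, 5, 2, 5, 2, 5, 2, 4, 3, 4, 3, 4],
   [0, 2, 0, 5, 0, 4, 0, 2, 4, 1, 5, 1, 4, 1, 5],
   [0, 2, 0, 5, 2, 4, 0, 5, 1, 3, 5, 3, 4, 1, 5],
   [2, 2],
   [0, 2, 0, 3, 1, 3],
   [0, 4, 2, 5, 0, 4, 3, 5],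
   [0, 4, 2, 5, 1, 4, 2, 5],
   [0, 4, 2, 5, 1, 4, 3, 5],
   [0, 4, 2, 5, 1, 4, 3, 4, 4],
   [0, 5, 5, 3, 5, 1, 5, 5, 2, 5]]

/-- the positive letters -/
def posL : List ℕ := [0, 2, 4]

theorem baseL_eq : baseL = baseOf cIV 6 sData rels posL := by decide +kernel

theorem hSl : ∀ p ∈ sData, p.1 < 6 ∧ (∀ t ∈ p.2.1, t < 6) ∧ (∀ t ∈ p.2.2, t < 6) := by decide +kernel

theorem hRl : ∀ r ∈ rels, ∀ t ∈ r, t < 6 := by decide +kernel

theorem hPl : ∀ x ∈ posL, x < 6 := by decide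

theorem hpos : ∀ s < 6, s ∈ posL ∨ invS cIV s ∈ posL := by decide

theorem hne : ∀ s < 6, invS cIV s ≠ s := by decide

theorem hpairs : ∀ s < 6, [s, invS cIV s] ∈ baseL := by decide +kernel

end Cfsg.Agent.Lib.Helper3.G24TC.U
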