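import Cfsg.Agent.Lib.helper3.TCUpper2

/-! certificate data: the base words (generated, helper3) -/

set_option autoImplicit false
set_option maxRecDepth 100000

namespace Cfsg.Agent.Lib.Helper3.G24TC.U

open Cfsg.Agent.Lib.Helper12.TC Cfsg.Agent.Lib.Helper12.TCG Cfsg.Agent.Lib.Helper3.TCUpper

/-- the base words: the relators, the letters with their inverses, the empty word -/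
def baseL : List (List ℕ) :=
  [[1, 4, 0, 2, 5, 4, 0, 2, 5, 0, 4, 3, 1, 5, 4, 3, 1, 5, 4, 0, 2, 5, 1, 4, 3, 1, 5],
   [3, 5, 0, 2, 4, 5, 0, 2, 4, 2, 5, 3, 1, 4, 5, 3, 1, 4, 5, 0, 2, 4, 3, 5, 3, 1, 4],
   [5, 0, 2, 4, 0, 5, 0, 2, 4, 3, 1, 4, 1, 5, 3, 1, 5],
   [0, 0, 0, 1, 1, 1],
   [0, 0, 2, 1, 1, 3],
   [0, 0, 4, 1, 1, 5],
   [5, 5, 5, 0, 4, 4, 4, 1],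
   [5, 5, 5, 2, 4, 4, 4, 3],
   [5, 5, 5, 4, 4, 4, 4, 5],
   [0, 2, 0, 2, 1, 3, 0, 2, 0, 3, 1, 3, 1, 1],
   [0, 2, 0, 2, 1, 3, 2, 2, 0, 3, 1, 3, 1, 3],
   [0, 2, 0, 2, 1, 3, 4, 2, 0, 3, 1, 3, 1, 5],
   [2, 5, 2, 5, 2, 5, 2, 4, 3, 4, 3, 4, 0, 5, 2, 5, 2, 5, 3, 4, 3, 4, 3, 4, 3, 1],
   [2, 5, 2, 5, 2, 5, 2, 4, 3, 4, 3, 4, 2, 5, 2, 5, 2, 5, 3, 4, 3, 4, 3, 4, 3, 3],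
   [2, 5, 2, 5, 2, 5, 2, 4, 3, 4, 3, 4, 4, 5, 2, 5, 2, 5, 3, 4, 3, 4, 3, 4, 3, 5],
   [0, 2, 0, 5, 0, 4, 0, 2, 4, 1, 5, 1, 4, 1, 5, 0, 4, 0, 5, 0, 4, 0, 5, 3, 1, 5, 1, 4, 1, 3, 1, 1],
   [0, 2, 0, 5, 0, 4, 0, 2, 4, 1, 5, 1, 4, 1, 5, 2, 4, 0, 5, 0, 4, 0, 5, 3, 1, 5, 1, 4, 1, 3, 1, 3],
   [0, 2, 0, 5, 0, 4, 0, 2, 4, 1, 5, 1, 4, 1, 5, 4, 4, 0, 5, 0, 4, 0, 5, 3, 1, 5, 1, 4, 1, 3, 1, 5],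
   [0, 2, 0, 5, 2, 4, 0, 5, 1, 3, 5, 3, 4, 1, 5, 0, 4, 0, 5, 2, 4, 2, 0, 4, 1, 5, 3, 4, 1, 3, 1, 1],
   [0, 2, 0, 5, 2, 4, 0, 5, 1, 3, 5, 3, 4, 1, 5, 2, 4, 0, 5, 2, 4, 2, 0, 4, 1, 5, 3, 4, 1, 3, 1, 3],
   [0, 2, 0, 5, 2, 4, 0, 5, 1, 3, 5, 3, 4, 1, 5, 4, 4, 0, 5, 2, 4, 2, 0, 4, 1, 5, 3, 4, 1, 3, 1, 5],
   [2, 2, 0, 3, 3, 1],
   [2, 2, 2, 3, 3, 3],
   [2, 2, 4, 3, 3, 5],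
   [0, 2, 0, 3, 1, 3, 0, 2, 0, 2, 1, 3, 1, 1],
   [0, 2, 0, 3, 1, 3, 2, 2, 0, 2, 1, 3, 1, 3],
   [0, 2, 0, 3, 1, 3, 4, 2, 0, 2, 1, 3, 1, 5],
   [0, 4, 2, 5, 0, 4, 3, 5, 0, 4, 2, 5, 1, 4, 3, 5, 1, 1],
   [0, 4, 2, 5, 0, 4, 3, 5, 2, 4, 2, 5, 1, 4, 3, 5, 1, 3],
   [0, 4, 2, 5, 0, 4, 3, 5, 4, 4, 2, 5, 1, 4, 3, 5, 1, 5],
   [0, 4, 2, 5, 1, 4, 2, 5, 0, 4, 3, 5, 0, 4, 3, 5, 1, 1],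
   [0, 4, 2, 5, 1, 4, 2, 5, 2, 4, 3, 5, 0, 4, 3, 5, 1, 3],
   [0, 4, 2, 5, 1, 4, 2, 5, 4, 4, 3, 5, 0, 4, 3, 5, 1, 5],
   [0, 4, 2, 5, 1, 4, 3, 5, 0, 4, 2, 5, 0, 4, 3, 5, 1, 1],
   [0, 4, 2, 5, 1, 4, 3, 5, 2, 4, 2, 5, 0, 4, 3, 5, 1, 3],
   [0, 4, 2, 5, 1, 4, 3, 5, 4, 4, 2, 5, 0, 4, 3, 5, 1, 5],
   [0, 4, 2, 5, 1, 4, 3, 4, 4, 0, 5, 5, 2, 5, 0, 4, 3, 5, 1, 1],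
   [0, 4, 2, 5, 1, 4, 3, 4, 4, 2, 5, 5, 2, 5, 0, 4, 3, 5, 1, 3],
   [0, 4, 2, 5, 1, 4, 3, 4, 4, 4, 5, 5, 2, 5, 0, 4, 3, 5, 1, 5],
   [0, 5, 5, 3, 5, 1, 5, 5, 2, 5, 0, 4, 3, 4, 4, 0, 4, 2, 4, 4, 1, 1],
   [0, 5, 5, 3, 5, 1, 5, 5, 2, 5, 2, 4, 3, 4, 4, 0, 4, 2, 4, 4, 1, 3],
   [0, 5, 5, 3, 5, 1, 5, 5, 2, 5, 4, 4, 3, 4, 4, 0, 4, 2, 4, 4, 1, 5],
   [0, 1],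
   [1, 0],
   [2, 3],
   [3, 2],
   [4, 5],
   [5, 4],
   []]

/-- the inverse letters -/
def cIV : ℕ := 18364758544492077825

/-- subgroup words -/
def sw : List (List ℕ) := []

theorem hiv : ivK cIV 6 = true := by decide

theorem hlet : lettersK 6 baseL = true := by decide +kernel

theorem hletsw : lettersK 6 sw = true := by decide +kernel

end Cfsg.Agent.Lib.Helper3.G24TC.U
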