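import Cfsg.Agent.Lib.helper3.G24TC.U.Chk0
import Cfsg.Agent.Lib.helper3.G24TC.U.Chk1
import Cfsg.Agent.Lib.helper3.G24TC.U.Chk2
import Cfsg.Agent.Lib.helper3.G24TC.U.Chk3
import Cfsg.Agent.Lib.helper3.G24TC.U.Chk4
import Cfsg.Agent.Lib.helper3.G24TC.U.Fin

/-! the chunks of the certificate (generated, helper3) -/

set_option autoImplicit false
set_option maxRecDepth 100000
set_option linter.unusedSimpArgs false

namespace Cfsg.Agent.Lib.Helper3.G24TC.U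

open Cfsg.Agent.Lib.Helper12.TC Cfsg.Agent.Lib.Helper12.TCG Cfsg.Agent.Lib.Helper3.TCUpper

/-- the chunks of the certificate -/
noncomputable def chunks : List Chunk :=
  [⟨12231, rw0, 203, 203, rot0, recs0⟩,
   ⟨15231, rw1, 187, 187, rot1, recs1⟩,
   ⟨18231, rw2, 121, 121, rot2, recs2⟩,
   ⟨21231, rw3, 124, 124, rot3, recs3⟩,
   ⟨24231, rw4, 168, 168, rot4, recs4⟩,
   ⟨27231, rw5, 252, 252, rot5, recs5⟩,
   ⟨30231, rw6, 255, 255, rot6, recs6⟩,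
   ⟨31617, rw7, 255, 255, rot7, recs7⟩,
   ⟨33123, rw8, 255, 255, rot8, recs8⟩,
   ⟨34506, rw9, 255, 255, rot9, recs9⟩,
   ⟨35897, rw10, 255, 255, rot10, recs10⟩,
   ⟨37934, rw11, 132, 132, rot11, recs11⟩]

theorem hcover : coverK cD cK (chunks.map fun c => (c.start, c.recs)) = true := by
  unfold chunks
  simp only [List.map_cons, List.map_nil]
  decide +kernel

theorem hchunks : ∀ c ∈ chunks, relCheckK c.RW c.R0 c.R baseL c.rotW sw = true ∧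
    chunkG cIV F c.RW c.R0 c.recs c.start = true := by
  unfold chunks
  simp only [List.forall_mem_cons, List.not_mem_nil, false_imp_iff, implies_true, and_true]
  exact ⟨⟨hrel0, hchk0⟩, ⟨hrel1, hchk1⟩, ⟨hrel2, hchk2⟩, ⟨hrel3, hchk3⟩, ⟨hrel4, hchk4⟩, ⟨hrel5, hchk5⟩, ⟨hrel6, hchk6⟩, ⟨hrel7, hchk7⟩, ⟨hrel8, hchk8⟩, ⟨hrel9, hchk9⟩, ⟨hrel10, hchk10⟩, ⟨hrel11, hchk11⟩⟩

end Cfsg.Agent.Lib.Helper3.G24TC.U
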